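import Mathlib
import Cfsg.Agent.S0242
import Cfsg.Agent.S0245

/-!
# S4816, layer (I): orders of `SL` and `Sp`, parts (helper37)
-/

set_option autoImplicit false

namespace Cfsg.Agent.H37.RIM

theorem sum_le_two_mul (k : ℕ) :
    ∑ i ∈ Finset.range (k + 1), (k + 2 - i) ≤ 2 * ∑ i ∈ Finset.range (k + 2), i := by
  induction k with
  | zero => decide
  | succ k ih =>
    rw [Finset.sum_range_succ', Finset.sum_range_succ (n := k + 2)]
    have h1 : ∑ i ∈ Finset.range (k + 1), (k + 1 + 2 - (i + 1)) = ∑ i ∈ Finset.range (k + 1), (k + 2 - i) :=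
      Finset.sum_congr rfl fun i _ => by omega
    rw [h1]
    omega

theorem prod_sub_eq (Q n : ℕ) : ∏ i ∈ Finset.range n, (Q ^ n - Q ^ i) =
    Q ^ (∑ i ∈ Finset.range n, i) * ∏ i ∈ Finset.range n, (Q ^ (n - i) - 1) := by
  rw [← Finset.prod_pow_eq_pow_sum, ← Finset.prod_mul_distrib]
  refine Finset.prod_congr rfl fun i hi => ?_
  rw [Nat.mul_sub, mul_one, ← pow_add, Nat.add_sub_cancel' (Finset.mem_range.1 hi).le]

/-- the order of `SL(k + 2, F)` -/
theorem card_SL_eq {F : Type*} [Field F] [Fintype F] {Q : ℕ} (hQ : Fintype.card F = Q) (k : ℕ) :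
    Nat.card (Matrix.SpecialLinearGroup (Fin (k + 2)) F) =
      Q ^ (∑ i ∈ Finset.range (k + 2), i) * ∏ i ∈ Finset.range (k + 1), (Q ^ (k + 2 - i) - 1) := by
  have hQ2 : 2 ≤ Q := by rw [← hQ]; exact Fintype.one_lt_card
  have h1 := Cfsg.Agent.S0242.result hQ (k + 2) (by omega)
  rw [Fin.prod_univ_eq_prod_range (fun i => Q ^ (k + 2) - Q ^ i) (k + 2), prod_sub_eq,
    Finset.prod_range_succ (n := k + 1)] at h1
  have h2 : Q ^ (k + 2 - (k + 1)) - 1 = Q - 1 := by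
    rw [show k + 2 - (k + 1) = 1 by omega, pow_one]
  rw [h2, ← mul_assoc, mul_comm (Q - 1)] at h1
  exact Nat.eq_of_mul_eq_mul_right (by omega) h1

/-- `p`-part and size of `SL(a, p ^ b)` -/
theorem sl_parts {F : Type*} [Field F] [Fintype F] {p a b : ℕ} (hp : p.Prime) (ha : 2 ≤ a) (hb : b ≠ 0)
    (hF : Fintype.card F = p ^ b) {N : ℕ} (hN : N = Nat.card (Matrix.SpecialLinearGroup (Fin a) F)) :
    ∃ c : ℕ, 1 ≤ c ∧ (c = 1 → a * b = 2) ∧ p ^ c ∣ N ∧ ¬ p ^ (c + 1) ∣ N ∧ N < p ^ (3 * c) := by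
  obtain ⟨k, rfl⟩ := Nat.exists_eq_add_of_le' ha
  have h2 := hp.two_le
  have hpb : 2 ≤ p ^ b := h2.trans (Nat.le_self_pow hb p)
  set Q := p ^ b with hQ
  set s := ∑ i ∈ Finset.range (k + 2), i with hs
  have hs1 : 1 ≤ s := by
    rw [hs, Finset.sum_range_succ, Finset.sum_range_succ]
    omega
  have hpos : ∀ j, 1 ≤ j → ¬ p ∣ Q ^ j - 1 := by
    intro j hj h
    have h3 : p ∣ Q ^ j := (dvd_pow_self p hb).trans (dvd_pow_self Q (by omega))
    have h4 : 1 ≤ Q ^ j := Nat.one_le_pow _ _ (by omega)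
    have h5 : p ∣ 1 := by
      have := Nat.dvd_sub h3 h
      rwa [show Q ^ j - (Q ^ j - 1) = 1 by omega] at this
    exact hp.one_lt.ne' (Nat.dvd_one.1 h5)
  have hN' : N = Q ^ s * ∏ i ∈ Finset.range (k + 1), (Q ^ (k + 2 - i) - 1) := by
    rw [hN, card_SL_eq hF k]
  set R := ∏ i ∈ Finset.range (k + 1), (Q ^ (k + 2 - i) - 1) with hR
  have hQs : Q ^ s = p ^ (b * s) := by rw [hQ, ← pow_mul]
  have hbs : 1 ≤ b * s := Nat.mul_pos (by omega) hs1
  refine ⟨b * s, hbs, ?_, ?_, ?_, ?_⟩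
  · intro h
    have hb1 : b = 1 := Nat.eq_one_of_mul_eq_one_right h
    have hs' : s = 1 := Nat.eq_one_of_mul_eq_one_left h
    have hk : k = 0 := by
      by_contra hne
      obtain ⟨j, rfl⟩ := Nat.exists_eq_add_of_le' (Nat.pos_of_ne_zero hne)
      rw [hs, Finset.sum_range_succ, Finset.sum_range_succ] at hs'
      omega
    subst hk
    rw [hb1]
  · rw [hN', hQs]
    exact dvd_mul_right _ _
  · rw [hN', hQs, pow_succ]
    intro h
    have h3 : p ∣ R := Nat.dvd_of_mul_dvd_mul_left (pow_pos hp.pos _) h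
    obtain ⟨i, hi, h4⟩ := (Prime.dvd_finset_prod_iff hp.prime _).1 h3
    have h5 := Finset.mem_range.1 hi
    exact hpos (k + 2 - i) (by omega) h4
  · have h3 : R < ∏ i ∈ Finset.range (k + 1), Q ^ (k + 2 - i) := by
      refine Finset.prod_lt_prod_of_nonempty ?_ ?_ ⟨0, Finset.mem_range.2 (by omega)⟩
      · intro i hi
        have h5 := Finset.mem_range.1 hi
        have : 2 ≤ Q ^ (k + 2 - i) := hpb.trans (Nat.le_self_pow (by omega) Q)
        omega
      · intro i hi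
        have h5 := Finset.mem_range.1 hi
        have : 2 ≤ Q ^ (k + 2 - i) := hpb.trans (Nat.le_self_pow (by omega) Q)
        omega
    rw [Finset.prod_pow_eq_pow_sum] at h3
    have h4 := sum_le_two_mul k
    calc N = Q ^ s * R := hN'
      _ < Q ^ s * Q ^ (∑ i ∈ Finset.range (k + 1), (k + 2 - i)) :=
        Nat.mul_lt_mul_of_pos_left h3 (pow_pos (by omega) _)
      _ ≤ Q ^ s * Q ^ (2 * s) := Nat.mul_le_mul_left _ (Nat.pow_le_pow_right (by omega) h4)
      _ = p ^ (3 * (b * s)) := by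
        rw [← pow_add, hQ, ← pow_mul]
        congr 1
        ring

/-- `p`-part and size of `Sp(2 m, p ^ b)` -/
theorem sp_parts {F : Type*} [Field F] [Fintype F] {p m b : ℕ} (hp : p.Prime) (hm : 1 ≤ m) (hb : b ≠ 0)
    (hF : Fintype.card F = p ^ b) {N : ℕ} (hN : N = Nat.card (Matrix.symplecticGroup (Fin m) F)) :
    ∃ c : ℕ, 1 ≤ c ∧ (c = 1 → 2 * m * b = 2) ∧ p ^ c ∣ N ∧ ¬ p ^ (c + 1) ∣ N ∧ N < p ^ (3 * c) := by
  have h2 := hp.two_le
  have hpb : 2 ≤ p ^ b := h2.trans (Nat.le_self_pow hb p)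
  set Q := p ^ b with hQ
  have hpos : ∀ j, 1 ≤ j → ¬ p ∣ Q ^ j - 1 := by
    intro j hj h
    have h3 : p ∣ Q ^ j := (dvd_pow_self p hb).trans (dvd_pow_self Q (by omega))
    have h4 : 1 ≤ Q ^ j := Nat.one_le_pow _ _ (by omega)
    have h5 : p ∣ 1 := by
      have := Nat.dvd_sub h3 h
      rwa [show Q ^ j - (Q ^ j - 1) = 1 by omega] at this
    exact hp.one_lt.ne' (Nat.dvd_one.1 h5)
  have hN' : N = Q ^ (m ^ 2) * ∏ i ∈ Finset.range m, (Q ^ (2 * (i + 1)) - 1) := by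
    rw [hN, Cfsg.Agent.S0245.result hF m]
  set R := ∏ i ∈ Finset.range m, (Q ^ (2 * (i + 1)) - 1) with hR
  have hQs : Q ^ (m ^ 2) = p ^ (b * m ^ 2) := by rw [hQ, ← pow_mul]
  have hbs : 1 ≤ b * m ^ 2 := Nat.mul_pos (by omega) (by positivity)
  refine ⟨b * m ^ 2, hbs, ?_, ?_, ?_, ?_⟩
  · intro h
    have hb1 : b = 1 := Nat.eq_one_of_mul_eq_one_right h
    have hs' : m ^ 2 = 1 := Nat.eq_one_of_mul_eq_one_left h
    have hk : m = 1 := by
      rcases Nat.lt_or_ge m 2 with h3 | h3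
      · omega
      · have : 2 ^ 2 ≤ m ^ 2 := Nat.pow_le_pow_left h3 2
        omega
    rw [hb1, hk]
  · rw [hN', hQs]
    exact dvd_mul_right _ _
  · rw [hN', hQs, pow_succ]
    intro h
    have h3 : p ∣ R := Nat.dvd_of_mul_dvd_mul_left (pow_pos hp.pos _) h
    obtain ⟨i, hi, h4⟩ := (Prime.dvd_finset_prod_iff hp.prime _).1 h3
    exact hpos (2 * (i + 1)) (by omega) h4
  · have h3 : R < ∏ i ∈ Finset.range m, Q ^ (2 * (i + 1)) := by
      refine Finset.prod_lt_prod_of_nonempty ?_ ?_ ⟨0, Finset.mem_range.2 (by omega)⟩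
      · intro i hi
        have : 2 ≤ Q ^ (2 * (i + 1)) := hpb.trans (Nat.le_self_pow (by omega) Q)
        omega
      · intro i hi
        have : 2 ≤ Q ^ (2 * (i + 1)) := hpb.trans (Nat.le_self_pow (by omega) Q)
        omega
    rw [Finset.prod_pow_eq_pow_sum] at h3
    have h4 : ∀ m : ℕ, 1 ≤ m → ∑ i ∈ Finset.range m, 2 * (i + 1) ≤ 2 * m ^ 2 := by
      intro m hm
      induction m, hm using Nat.le_induction with
      | base => decide
      | succ n hn ih =>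
        rw [Finset.sum_range_succ]
        nlinarith
    calc N = Q ^ (m ^ 2) * R := hN'
      _ < Q ^ (m ^ 2) * Q ^ (∑ i ∈ Finset.range m, 2 * (i + 1)) :=
        Nat.mul_lt_mul_of_pos_left h3 (pow_pos (by omega) _)
      _ ≤ Q ^ (m ^ 2) * Q ^ (2 * m ^ 2) := Nat.mul_le_mul_left _ (Nat.pow_le_pow_right (by omega) (h4 m hm))
      _ = p ^ (3 * (b * m ^ 2)) := by
        rw [← pow_add, hQ, ← pow_mul]
        congr 1
        ring

end Cfsg.Agent.H37.RIM
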