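import Mathlib
import Cfsg.Statements.S3695
import Cfsg.Agent.H37.RIM.HerP
import Cfsg.Agent.H37.RIM.HerPA
import Cfsg.Agent.TwoFusion.SLTwoFacts

/-!
# S4816, layer (I): Hering's theorem in the form `HerP`, from the statement of S3695 (helper37)
-/

set_option autoImplicit false
set_option linter.style.haveILetI false
set_option linter.unusedSectionVars false

namespace Cfsg.Agent.H37.RIM

universe v

/-- the statement of S3695 -/
def Her3695 : Prop :=
  ∀ {K : Type} {V : Type v} [Field K] [Fintype K] [AddCommGroup V] [Module K V] [Finite V]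
    (q n : ℕ) (_ : Fintype.card K = q) (_ : Module.finrank K V = n) (_ : 1 ≤ n)
    (H : Subgroup (Equiv.Perm V)) (_ : ∀ h ∈ H, ∀ v w : V, h (v + w) = h v + h w)
    (_ : ∀ h ∈ H, ∃ σ : K ≃+* K, ∀ (c : K) (v : V), h (c • v) = σ c • h v)
    (_ : ∀ v w : V, v ≠ 0 → w ≠ 0 → ∃ h ∈ H, ∃ c : K, h v = c • w),
    (∃ (a b : ℕ) (F : Type) (_ : Field F) (_ : Fintype F), a * b = n ∧ Fintype.card F = q ^ b ∧
      ∃ N : Subgroup H, N.Normal ∧
        ((2 ≤ a ∧ Nonempty (N ≃* Matrix.SpecialLinearGroup (Fin a) F)) ∨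
         (∃ m : ℕ, a = 2 * m ∧ 1 ≤ m ∧ Nonempty (N ≃* Matrix.symplecticGroup (Fin m) F)) ∨
         (a = 6 ∧ q % 2 = 0 ∧ 4 ≤ Fintype.card F ∧ Nonempty (N ≃* Cfsg.Lie.chevG2.group F)) ∨
         (a = 6 ∧ Fintype.card F = 2 ∧ ∃ (E : Type) (_ : Field E) (_ : Fintype E), Fintype.card E = 9 ∧ Nonempty (N ≃* Cfsg.PSU 3 E 3)))) ∨
    (∃ (F : Type) (_ : Field F) (_ : Fintype F) (e : V ≃+ F), Fintype.card F = q ^ n ∧
      ∀ h ∈ H, ∃ (c : F) (σ : F ≃+* F), ∀ v : V, e (h v) = c * σ (e v)) ∨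
    (n = 2 ∧ (q = 5 ∨ q = 7 ∨ q = 11 ∨ q = 23) ∧ ∃ N : Subgroup H, N.Normal ∧ Nonempty (N ≃* QuaternionGroup 2)) ∨
    (n = 2 ∧ (q = 9 ∨ q = 11 ∨ q = 19 ∨ q = 29 ∨ q = 59) ∧
      ∃ N : Subgroup H, N.Normal ∧ Nonempty (N ≃* Matrix.SpecialLinearGroup (Fin 2) (ZMod 5))) ∨
    (n = 4 ∧ q = 2 ∧ (Nonempty (H ≃* alternatingGroup (Fin 6)) ∨ Nonempty (H ≃* alternatingGroup (Fin 7)))) ∨
    (n = 4 ∧ q = 3 ∧ ((∃ N : Subgroup H, N.Normal ∧ Nat.card N = 32 ∧ Nat.card H ∣ 32 * 120) ∨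
      ∃ N : Subgroup H, N.Normal ∧ Nonempty (N ≃* Matrix.SpecialLinearGroup (Fin 2) (ZMod 5)))) ∨
    (n = 6 ∧ q = 3 ∧ Nonempty (H ≃* Matrix.SpecialLinearGroup (Fin 2) (ZMod 13)))

theorem card_space' {q : ℕ} [hq : Fact q.Prime] {V : Type*} [AddCommGroup V] [Finite V]
    [Module (ZMod q) V] : Nat.card V = q ^ Module.finrank (ZMod q) V := by
  haveI : Module.Finite (ZMod q) V := Module.Finite.of_finite
  have h1 : Nat.card V = Nat.card (ZMod q) ^ Module.finrank (ZMod q) V :=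
    Module.natCard_eq_pow_finrank (K := ZMod q)
  rw [h1, Nat.card_zmod]

theorem herP_of (hher : Her3695.{v}) : HerP.{v} := by
  intro q hq h2 V _ _ _ hexp H hadd htr
  haveI := Fact.mk hq
  letI : Module (ZMod q) V := AddCommGroup.zmodModule hexp
  haveI : Module.Finite (ZMod q) V := Module.Finite.of_finite
  obtain ⟨d, hd⟩ : ∃ d, Module.finrank (ZMod q) V = d := ⟨_, rfl⟩
  have hcard : Nat.card V = q ^ d := by
    rw [card_space' (q := q), hd]
  have hd1 : 1 ≤ d := by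
    by_contra hcon
    have h1 : d = 0 := by omega
    rw [h1, pow_zero] at hcard
    exact absurd hcard (Finite.one_lt_card (α := V)).ne'
  have hlin : ∀ h ∈ H, ∀ (c : ZMod q) (v : V), h (c • v) = c • h v := by
    intro h hh c v
    have h0 : h 0 = 0 := by
      have h1 := hadd h hh 0 0
      rw [add_zero] at h1
      exact left_eq_add.1 h1
    let f : V →+ V :=
      { toFun := h
        map_zero' := h0
        map_add' := hadd h hh }
    exact (f.toZModLinearMap q).map_smul c v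
  have hbne : ∀ a b : ℕ, a * b = d → b ≠ 0 := by
    rintro a b hab rfl
    rw [mul_zero] at hab
    omega
  rcases hher (K := ZMod q) (V := V) q d (ZMod.card q) hd hd1 H hadd
    (fun h hh => ⟨RingEquiv.refl _, fun c v => hlin h hh c v⟩)
    (fun v w hv hw => by
      obtain ⟨h, hh, hv⟩ := htr v w hv hw
      exact ⟨h, hh, 1, by rw [one_smul]; exact hv⟩) with
    ⟨a, b, F, _, _, hab, hF, N, hN, h⟩ | ⟨F, i1, i2, e, -, h⟩ | ⟨hn, hq4, h⟩ | ⟨hn, hq4, h⟩ | ⟨hn, hq4, -⟩ |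
    ⟨hn, hq4, -⟩ | ⟨hn, hq4, ⟨e⟩⟩
  · have hb := hbne a b hab
    rcases h with ⟨ha, ⟨e⟩⟩ | ⟨m, rfl, hm, ⟨e⟩⟩ | ⟨rfl, hq2, -⟩ | ⟨rfl, hF2, -⟩
    · obtain ⟨c, h1, h3, h4, h5, h6⟩ := sl_parts hq ha hb hF (Nat.card_congr e.toEquiv)
      exact Or.inl ⟨c, h1, fun hc => by rw [hcard, ← hab, h3 hc], N, hN, h4, h5, h6⟩
    · obtain ⟨c, h1, h3, h4, h5, h6⟩ := sp_parts hq hm hb hF (Nat.card_congr e.toEquiv)
      exact Or.inl ⟨c, h1, fun hc => by rw [hcard, ← hab, h3 hc], N, hN, h4, h5, h6⟩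
    · exfalso
      have := hq.eq_two_or_odd
      omega
    · exfalso
      have hqF : q ∣ Fintype.card F := by rw [hF]; exact dvd_pow_self q hb
      rw [hF2] at hqF
      have := Nat.le_of_dvd (by norm_num) hqF
      have := hq.two_le
      omega
  · exact Or.inr (Or.inl ⟨F, i1, i2, e, h⟩)
  · exact Or.inr (Or.inr (Or.inl ⟨by rw [hcard, hn], hq4, h⟩))
  · refine Or.inr (Or.inr (Or.inr (Or.inl ⟨by rw [hcard, hn], ?_, h⟩)))
    rcases hq4 with rfl | h1 | h1 | h1 | h1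
    · exact absurd hq (by decide)
    · exact Or.inl h1
    · exact Or.inr (Or.inl h1)
    · exact Or.inr (Or.inr (Or.inl h1))
    · exact Or.inr (Or.inr (Or.inr h1))
  · omega
  · refine Or.inr (Or.inr (Or.inr (Or.inr (Or.inl ⟨hq4, ?_⟩))))
    rw [hcard, hn, hq4]
    norm_num
  · refine Or.inr (Or.inr (Or.inr (Or.inr (Or.inr ⟨hq4, ?_, ?_⟩))))
    · haveI : Fact (Nat.Prime 13) := ⟨by norm_num⟩
      rw [Nat.card_congr e.toEquiv]
      have h1 := card_SL_eq (F := ZMod 13) (ZMod.card 13) 0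
      rw [h1]
      decide
    · haveI : Fact (Nat.Prime 13) := ⟨by norm_num⟩
      have h1 := Cfsg.Agent.TwoFusion.SLTwoFacts.commutator_eq_top (F := ZMod 13) (by rw [ZMod.card]; norm_num)
      have h2 := congrArg (Subgroup.map e.symm.toMonoidHom) h1
      rw [commutator_def, Subgroup.map_commutator, ← MonoidHom.range_eq_map,
        MonoidHom.range_eq_top.2 e.symm.surjective] at h2
      rw [commutator_def]
      exact h2

end Cfsg.Agent.H37.RIM
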