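import Mathlib
import Cfsg.Agent.H37.RIM.HerPB
import Cfsg.Agent.S3695

/-!
# S4816, layer (I): `HerP` (helper37)
-/

set_option autoImplicit false

namespace Cfsg.Agent.H37.RIM

universe v

/-- Hering's theorem in odd characteristic. -/
theorem herP : HerP.{v} :=
  herP_of (fun q n hq hn h1 H hadd hsemi htrans => Cfsg.Agent.S3695.result q n hq hn h1 H hadd hsemi htrans)

end Cfsg.Agent.H37.RIM
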