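import Mathlib
import Cfsg.Agent.H37.RIM.HerP

/-!
# S4816, layer (I): the Hering step for `n = 5`, `p = 3` (helper37)
-/

set_option autoImplicit false
set_option linter.style.haveILetI false
set_option linter.unusedSectionVars false

namespace Cfsg.Agent.H37.RIM

open MulAction Cfsg.Agent.H605.NX

universe v

section A4

set_option maxRecDepth 20000 in
theorem a4_comm_sq : ∀ x : Equiv.Perm (Fin 4), Equiv.Perm.sign x = 1 → ∀ y : Equiv.Perm (Fin 4),
    Equiv.Perm.sign y = 1 → (x * y * x⁻¹ * y⁻¹) ^ 2 = 1 := by decide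

set_option maxRecDepth 20000 in
theorem a4_sq_comm : ∀ x : Equiv.Perm (Fin 4), Equiv.Perm.sign x = 1 → x ^ 2 = 1 →
    ∀ y : Equiv.Perm (Fin 4), Equiv.Perm.sign y = 1 → y ^ 2 = 1 → x * y = y * x := by decide

set_option maxRecDepth 20000 in
/-- every even permutation of four points is a product of two elements of order dividing `3` -/
theorem a4_prod : ∀ x : Equiv.Perm (Fin 4), Equiv.Perm.sign x = 1 → ∃ y : Equiv.Perm (Fin 4),
    Equiv.Perm.sign y = 1 ∧ y ^ 3 = 1 ∧ (y⁻¹ * x) ^ 3 = 1 := by decide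

end A4

/-- a group acting faithfully on `F_3 ^ 4`, transitively on the nonzero vectors, with a normal `3'`-subgroup of
index prime to `5`, has order prime to `3` -/
theorem no_three_81 {T W : Type*} [Group T] [Finite T] [AddCommGroup W] [Finite W] [DistribMulAction T W]
    (hfaith : ∀ t : T, (∀ w : W, t • w = w) → t = 1) (hW : Nat.card W = 81)
    (htr : ∀ v w : W, v ≠ 0 → w ≠ 0 → ∃ g : T, g • v = w) (L : Subgroup T) [hL : L.Normal]
    (h3L : ¬ 3 ∣ Nat.card L) (h5 : ¬ 5 ∣ L.index) : ¬ 3 ∣ Nat.card T := by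
  classical
  intro h3
  haveI : Fact (Nat.Prime 5) := ⟨by norm_num⟩
  haveI : Fact (Nat.Prime 3) := ⟨Nat.prime_three⟩
  haveI : Nontrivial W := by
    rw [← Finite.one_lt_card_iff_nontrivial, hW]; norm_num
  -- an element of `5`-power order without fixed points
  have hfix5 : ∀ t : T, (∃ k, t ^ 5 ^ k = 1) → t ≠ 1 → ∀ w : W, t • w = w → w = 0 := by
    intro t ht ht1 w hw
    have h1 := card_fixA_modEq (W := W) (r := 5) ht
    have h2 : Nat.card (fixA W t) ∣ 3 ^ 4 := by
      have h := AddSubgroup.card_addSubgroup_dvd_card (fixA W t)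
      rw [hW] at h
      exact h
    obtain ⟨k, hk, hk'⟩ := (Nat.dvd_prime_pow Nat.prime_three).1 h2
    rw [hW, hk'] at h1
    have h3 : k = 0 ∨ k = 4 := by
      interval_cases k
      · exact Or.inl rfl
      · exact absurd h1 (by decide)
      · exact absurd h1 (by decide)
      · exact absurd h1 (by decide)
      · exact Or.inr rfl
    rcases h3 with rfl | rfl
    · rw [pow_zero] at hk'
      have h4 : fixA W t = ⊥ := AddSubgroup.card_eq_one.1 hk'
      have h5 : w ∈ fixA W t := hw
      rw [h4] at h5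
      exact h5
    · exfalso
      apply ht1
      apply hfaith
      have h4 : fixA W t = ⊤ := by
        apply AddSubgroup.eq_top_of_card_eq
        rw [hk', hW]; norm_num
      intro w
      have h5 : w ∈ fixA W t := by rw [h4]; trivial
      exact h5
  -- the order of `T`
  obtain ⟨v, hv⟩ := exists_ne (0 : W)
  have h80 : (stabilizer T v).index = 80 := by
    have h4 : orbit T v = {0}ᶜ := by
      ext w
      rw [Set.mem_compl_singleton_iff]
      constructor
      · rintro ⟨k, rfl⟩ h
        exact hv ((smul_eq_zero_iff_eq k).1 h)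
      · intro hw
        exact htr v w hv hw
    rw [index_stabilizer, h4]
    have h5 : ({0} : Set W)ᶜ.ncard = Nat.card W - ({0} : Set W).ncard := Set.ncard_compl _
    rw [Set.ncard_singleton, hW] at h5
    exact h5
  have h5T : 5 ∣ Nat.card T := by
    have h1 : (stabilizer T v).index ∣ Nat.card T := Subgroup.index_dvd_card _
    rw [h80] at h1
    exact (by norm_num : (5 : ℕ) ∣ 80).trans h1
  have h5L : 5 ∣ Nat.card L := by
    rw [← Subgroup.card_mul_index L] at h5T
    exact ((by norm_num : Nat.Prime 5).dvd_mul.1 h5T).resolve_right h5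
  -- a Sylow `5`-subgroup of `L`
  obtain ⟨P⟩ : Nonempty (Sylow 5 L) := inferInstance
  set P' : Subgroup T := (P : Subgroup L).map L.subtype with hP'
  have hfrat : Subgroup.normalizer (P' : Set T) ⊔ L = ⊤ := Sylow.normalizer_sup_eq_top P
  have hP5 : IsPGroup 5 P' := P.isPGroup'.map L.subtype
  have hPk : ∀ t ∈ P', ∃ k, t ^ 5 ^ k = 1 := by
    intro t ht
    obtain ⟨k, hk⟩ := hP5 ⟨t, ht⟩
    exact ⟨k, congrArg Subtype.val hk⟩
  have hPne : P' ≠ ⊥ := by
    intro h
    have h1 : (P : Subgroup L) = ⊥ := by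
      rwa [hP', Subgroup.map_eq_bot_iff_of_injective _ L.subtype_injective] at h
    have h2 := P.dvd_card_of_dvd_card h5L
    rw [h1, Subgroup.card_bot] at h2
    exact absurd h2 (by norm_num)
  have hcardP : Nat.card P' = 5 := by
    -- semiregular
    obtain ⟨k, hk⟩ := IsPGroup.iff_card.1 hP5
    have h1 : Nat.card P' ∣ 80 := by
      letI : MulAction P' {w : W // w ≠ 0} :=
        { smul := fun t w => ⟨(t : T) • (w : W), fun h => w.2 ((smul_eq_zero_iff_eq (t : T)).1 h)⟩
          one_smul := fun w => Subtype.ext (one_smul T (w : W))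
          mul_smul := fun a b w => Subtype.ext (mul_smul (a : T) (b : T) (w : W)) }
      have h2 : ∀ w : {w : W // w ≠ 0}, stabilizer P' w = ⊥ := by
        intro w
        rw [eq_bot_iff]
        intro t ht
        by_contra hne
        have h3 : (t : T) • (w : W) = w := congrArg Subtype.val ht
        exact w.2 (hfix5 t (hPk t t.2) (fun h => hne (Subgroup.mem_bot.2 (Subtype.ext h))) w h3)
      have h3 : Nat.card {w : W // w ≠ 0} = 80 := by
        have h4 : Nat.card {w : W // w ≠ 0} = ({0} : Set W)ᶜ.ncard := rfl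
        rw [h4]
        have h5 : ({0} : Set W)ᶜ.ncard = Nat.card W - ({0} : Set W).ncard := Set.ncard_compl _
        rw [Set.ncard_singleton, hW] at h5
        exact h5
      rw [← h3]
      have h4 := MulAction.selfEquivSigmaOrbits P' {w : W // w ≠ 0}
      haveI : Finite (orbitRel.Quotient P' {w : W // w ≠ 0}) := Quotient.finite _
      haveI := Fintype.ofFinite (orbitRel.Quotient P' {w : W // w ≠ 0})
      rw [Nat.card_congr h4, Nat.card_sigma]
      refine Finset.dvd_sum fun ω _ => ?_
      rw [Nat.card_coe_set_eq, ← MulAction.index_stabilizer, h2, Subgroup.index_bot]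
    rw [hk] at h1 ⊢
    have h2 : k ≠ 0 := by
      rintro rfl
      rw [pow_zero] at hk
      exact hPne (Subgroup.card_eq_one.1 hk)
    have h3 : k < 2 := by
      by_contra hcon
      have h4 : 5 ^ 2 ∣ 5 ^ k := pow_dvd_pow 5 (by omega)
      exact absurd (h4.trans h1) (by norm_num)
    have h4 : k = 1 := by omega
    rw [h4, pow_one]
  -- an element of order three in the normalizer
  have h3N : 3 ∣ Nat.card (Subgroup.normalizer (P' : Set T)) := by
    have h1 : 3 ∣ L.index := by
      rw [← Subgroup.card_mul_index L] at h3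
      exact (Nat.prime_three.dvd_mul.1 h3).resolve_left h3L
    have h2 : L.relIndex (Subgroup.normalizer (P' : Set T)) = L.index := by
      rw [← Subgroup.relIndex_sup_right, hfrat, Subgroup.relIndex_top_right]
    rw [← h2] at h1
    exact h1.trans (Subgroup.relIndex_dvd_card _ _)
  obtain ⟨⟨x, hxN⟩, hx⟩ := exists_prime_orderOf_dvd_card' 3 h3N
  have hx3 : x ^ 3 = 1 := by
    have h1 := pow_orderOf_eq_one (⟨x, hxN⟩ : Subgroup.normalizer (P' : Set T))
    rw [hx] at h1
    exact congrArg Subtype.val h1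
  have hx1 : x ≠ 1 := by
    intro h
    have h1 : (⟨x, hxN⟩ : Subgroup.normalizer (P' : Set T)) = 1 := Subtype.ext h
    rw [h1, orderOf_one] at hx
    exact absurd hx (by norm_num)
  obtain ⟨y, hyP, hy1⟩ : ∃ y ∈ P', y ≠ 1 := by
    by_contra hcon
    push Not at hcon
    exact hPne ((Subgroup.eq_bot_iff_forall _).2 hcon)
  have hgen : ∀ z ∈ P', ∃ j : ℕ, z = y ^ j := by
    intro z hz
    have h1 := mem_powers_of_prime_card (p := 5) hcardP (g := ⟨y, hyP⟩) (g' := ⟨z, hz⟩)
      (fun h => hy1 (congrArg Subtype.val h))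
    obtain ⟨j, hj⟩ := h1
    exact ⟨j, (congrArg Subtype.val hj).symm⟩
  have hy5 : y ^ 5 = 1 := by
    have h1 : (⟨y, hyP⟩ : P') ^ Nat.card P' = 1 := pow_card_eq_one'
    rw [hcardP] at h1
    exact congrArg Subtype.val h1
  have hcomm : x * y = y * x := by
    have h1 : x * y * x⁻¹ ∈ P' := (Subgroup.mem_normalizer_iff.1 hxN y).1 hyP
    obtain ⟨j, hj⟩ := hgen _ h1
    have h2 : ∀ m : ℕ, x ^ m * y * (x ^ m)⁻¹ = y ^ (j ^ m) := by
      intro m
      induction m with
      | zero => simp
      | succ m ih =>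
        have e1 : x ^ (m + 1) * y * (x ^ (m + 1))⁻¹ = x * (x ^ m * y * (x ^ m)⁻¹) * x⁻¹ := by
          rw [pow_succ']; group
        rw [e1, ih, ← conj_pow, hj, ← pow_mul, pow_succ']
    have h3 := h2 3
    rw [hx3, one_mul, inv_one, mul_one] at h3
    have hord : orderOf y = 5 := orderOf_eq_prime hy5 hy1
    have h4 : j ^ 3 ≡ 1 [MOD 5] := by
      have h5 : y ^ (j ^ 3) = y ^ 1 := by rw [pow_one]; exact h3.symm
      rw [pow_eq_pow_iff_modEq, hord] at h5
      exact h5
    have h5 : j ≡ 1 [MOD 5] := by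
      have h6 : j % 5 < 5 := Nat.mod_lt _ (by norm_num)
      have h7 : (j % 5) ^ 3 % 5 = 1 := by
        rw [← Nat.pow_mod]
        exact h4
      change j % 5 = 1 % 5
      interval_cases (j % 5) <;> omega
    have h6 : y ^ j = y ^ 1 := by
      rw [pow_eq_pow_iff_modEq, hord]
      exact h5
    rw [pow_one] at h6
    rw [h6] at hj
    rw [← mul_inv_eq_iff_eq_mul]
    exact hj
  -- the fixed points of `x`
  set U := fixA W x with hU
  have hU3 : 3 ∣ Nat.card U := by
    have h1 := card_fixA_modEq (W := W) (r := 3) (g := x) ⟨1, by rw [pow_one]; exact hx3⟩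
    rw [hW] at h1
    exact (Nat.modEq_zero_iff_dvd).1 (h1.symm.trans (by decide))
  have hUy : ∀ t ∈ Subgroup.zpowers y, ∀ w ∈ U, t • w ∈ U := by
    intro t ht w hw
    obtain ⟨i, rfl⟩ := Subgroup.mem_zpowers_iff.1 ht
    change x • (y ^ i) • w = (y ^ i) • w
    have h1 : x * y ^ i = y ^ i * x := (Commute.zpow_right (show Commute x y from hcomm) i)
    rw [← mul_smul, h1, mul_smul, show x • w = w from hw]
  letI : MulAction (Subgroup.zpowers y) U :=
    { smul := fun t w => ⟨(t : T) • (w : W), hUy t t.2 w w.2⟩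
      one_smul := fun w => Subtype.ext (one_smul T (w : W))
      mul_smul := fun a b w => Subtype.ext (mul_smul (a : T) (b : T) (w : W)) }
  have hsm : ∀ (t : Subgroup.zpowers y) (w : U), ((t • w : U) : W) = (t : T) • (w : W) := fun _ _ => rfl
  have hZ5 : IsPGroup 5 (Subgroup.zpowers y) := by
    rintro ⟨_, i, rfl⟩
    refine ⟨1, Subtype.ext ?_⟩
    change (y ^ i) ^ 5 ^ 1 = 1
    rw [pow_one, ← zpow_natCast, ← zpow_mul, mul_comm, zpow_mul, zpow_natCast, hy5, one_zpow]
  have hmod := hZ5.card_modEq_card_fixedPoints U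
  have hfp : Nat.card (fixedPoints (Subgroup.zpowers y) U) = 1 := by
    rw [Nat.card_eq_one_iff_unique]
    constructor
    · constructor
      rintro ⟨a, ha⟩ ⟨b, hb⟩
      have h0 : ∀ c : U, c ∈ fixedPoints (Subgroup.zpowers y) U → c = 0 := by
        intro c hc
        have h1 := hc ⟨y, Subgroup.mem_zpowers y⟩
        have h2 : y • (c : W) = c := by
          rw [← hsm ⟨y, Subgroup.mem_zpowers y⟩ c, h1]
        exact Subtype.ext (hfix5 y ⟨1, by rw [pow_one]; exact hy5⟩ hy1 c h2)
      exact Subtype.ext ((h0 a ha).trans (h0 b hb).symm)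
    · exact ⟨⟨0, fun t => Subtype.ext (by rw [hsm]; exact smul_zero _)⟩⟩
  rw [hfp] at hmod
  have hUd : Nat.card U ∣ 3 ^ 4 := by
    have h := AddSubgroup.card_addSubgroup_dvd_card U
    rw [hW] at h
    exact h
  obtain ⟨k, hk, hk'⟩ := (Nat.dvd_prime_pow Nat.prime_three).1 hUd
  rw [hk'] at hmod hU3
  have hk4 : k = 4 := by
    interval_cases k
    · exact absurd hU3 (by norm_num)
    · exact absurd hmod (by decide)
    · exact absurd hmod (by decide)
    · exact absurd hmod (by decide)
    · rfl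
  rw [hk4] at hk'
  have hUt : U = ⊤ := by
    apply AddSubgroup.eq_top_of_card_eq
    rw [hk', hW]; norm_num
  apply hx1
  apply hfaith
  intro w
  have h5 : w ∈ U := by rw [hUt]; trivial
  exact h5

theorem a4_solvable : Group.IsSolvable (alternatingGroup (Fin 4)) := by
  let V : Subgroup (alternatingGroup (Fin 4)) :=
    { carrier := {x | x ^ 2 = 1}
      one_mem' := one_pow 2
      mul_mem' := by
        intro a b ha hb
        have ha' : (a : Equiv.Perm (Fin 4)) ^ 2 = 1 := congrArg Subtype.val ha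
        have hb' : (b : Equiv.Perm (Fin 4)) ^ 2 = 1 := congrArg Subtype.val hb
        have h := a4_sq_comm a a.2 ha' b b.2 hb'
        apply Subtype.ext
        change ((a : Equiv.Perm (Fin 4)) * b) ^ 2 = 1
        rw [Commute.mul_pow h, ha', hb', one_mul]
      inv_mem' := by
        intro a ha
        change a⁻¹ ^ 2 = 1
        rw [inv_pow, show a ^ 2 = 1 from ha, inv_one] }
  rw [Group.isSolvable_def]
  refine ⟨2, ?_⟩
  have h1 : derivedSeries (alternatingGroup (Fin 4)) 1 ≤ V := by
    rw [derivedSeries_succ, derivedSeries_zero, Subgroup.commutator_le]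
    intro x _ y _
    apply Subtype.ext
    exact a4_comm_sq x x.2 y y.2
  rw [eq_bot_iff, derivedSeries_succ]
  refine (Subgroup.commutator_mono h1 h1).trans ?_
  rw [Subgroup.commutator_le]
  intro x hx y hy
  rw [Subgroup.mem_bot, commutatorElement_eq_one_iff_mul_comm]
  apply Subtype.ext
  exact a4_sq_comm x x.2 (congrArg Subtype.val (show x ^ 2 = 1 from hx)) y y.2
    (congrArg Subtype.val (show y ^ 2 = 1 from hy))

section
variable {M : Type*} {W : Type v} [Group M] [Finite M] [AddCommGroup W] [Finite W] [DistribMulAction M W]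

/-- if the induced group has order prime to `3` then `3`-elements act trivially -/
theorem trivial_of_prime_to {p : ℕ} (hp : p.Prime) (h3 : ¬ p ∣ Nat.card (toPermHom M W).range) {g : M}
    (hg : ∃ k, g ^ p ^ k = 1) (w : W) : g • w = w := by
  obtain ⟨k, hk⟩ := hg
  have h1 : (⟨toPermHom M W g, g, rfl⟩ : (toPermHom M W).range) ^ p ^ k = 1 := by
    apply Subtype.ext
    change (toPermHom M W g) ^ p ^ k = 1
    rw [← map_pow, hk, map_one]
  have h2 : (⟨toPermHom M W g, g, rfl⟩ : (toPermHom M W).range) ^ Nat.card (toPermHom M W).range = 1 :=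
    pow_card_eq_one'
  have h4 := pow_gcd_eq_one.2 ⟨h1, h2⟩
  rw [(Nat.Coprime.pow_left k ((Nat.Prime.coprime_iff_not_dvd hp).2 h3)).gcd_eq_one, pow_one] at h4
  exact congrArg (fun f : Equiv.Perm W => f w) (congrArg Subtype.val h4)

/-- if `M / Q ≅ A_4` and `3`-elements act trivially, `Q` induces everything -/
theorem five_sup (Q : Subgroup M) [hQ : Q.Normal] (f : M ⧸ Q ≃* alternatingGroup (Fin 4))
    (h3 : ∀ g : M, (∃ k, g ^ 3 ^ k = 1) → ∀ w : W, g • w = w) (g : M) :
    g ∈ Q ⊔ (toPermHom M W).ker := by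
  classical
  let f' : M →* Equiv.Perm (Fin 4) := ((alternatingGroup (Fin 4)).subtype.comp f.toMonoidHom).comp (QuotientGroup.mk' Q)
  have hf'1 : ∀ x : M, f' x = 1 → x ∈ Q := by
    intro x hx
    rw [← QuotientGroup.eq_one_iff]
    apply f.injective
    rw [map_one]
    exact Subtype.ext hx
  have hf's : ∀ x : M, Equiv.Perm.sign (f' x) = 1 := fun x => (f (QuotientGroup.mk x)).2
  have hsurj : ∀ y : Equiv.Perm (Fin 4), Equiv.Perm.sign y = 1 → ∃ x : M, f' x = y := by
    intro y hy
    obtain ⟨x, hx⟩ := QuotientGroup.mk_surjective (f.symm ⟨y, hy⟩)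
    refine ⟨x, ?_⟩
    show ((f (QuotientGroup.mk x)) : Equiv.Perm (Fin 4)) = y
    rw [hx, f.apply_symm_apply]
  have hlift : ∀ y : Equiv.Perm (Fin 4), Equiv.Perm.sign y = 1 → y ^ 3 = 1 →
      ∃ x ∈ (toPermHom M W).ker, f' x = y := by
    intro y hy hy3
    obtain ⟨x, hx⟩ := hsurj y hy
    obtain ⟨e, m, hm, hem⟩ := Nat.exists_eq_pow_mul_and_not_dvd (orderOf_pos x).ne' 3 (by norm_num)
    have hk : ∀ k, x ^ (m * k) ∈ (toPermHom M W).ker := by
      intro k
      rw [MonoidHom.mem_ker]
      ext w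
      refine h3 _ ⟨e, ?_⟩ w
      rw [← pow_mul, show m * k * 3 ^ e = (3 ^ e * m) * k by ring, ← hem, pow_mul, pow_orderOf_eq_one, one_pow]
    have hy' : ∀ i, y ^ i = y ^ (i % 3) := fun i => by
      conv_lhs => rw [← Nat.div_add_mod i 3, pow_add, pow_mul, hy3, one_pow, one_mul]
    have hm3 : m % 3 = 1 ∨ m % 3 = 2 := by
      have : m % 3 ≠ 0 := fun h => hm (Nat.dvd_of_mod_eq_zero h)
      omega
    rcases hm3 with h | h
    · refine ⟨x ^ (m * 1), hk 1, ?_⟩
      rw [map_pow, hx, mul_one, hy' m, h, pow_one]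
    · refine ⟨x ^ (m * 2), hk 2, ?_⟩
      rw [map_pow, hx, hy' (m * 2), Nat.mul_mod, h]
      norm_num
  obtain ⟨y, hy, hy3, hyx⟩ := a4_prod (f' g) (hf's g)
  obtain ⟨a, ha, hay⟩ := hlift y hy hy3
  obtain ⟨b, hb, hby⟩ := hlift (y⁻¹ * f' g) (by rw [map_mul, map_inv, hy, hf's]; rfl) hyx
  have h1 : g * (a * b)⁻¹ ∈ Q := by
    apply hf'1
    rw [map_mul, map_inv, map_mul, hay, hby]
    group
  have h2 : g = g * (a * b)⁻¹ * (a * b) := by group
  rw [h2]
  exact Subgroup.mul_mem _ (Subgroup.mem_sup_left h1)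
    (Subgroup.mem_sup_right (Subgroup.mul_mem _ ha hb))

/-- **The Hering step**, `M / Q ≅ A_4`, `p = 3`. -/
theorem herP_five (hher : HerP.{v}) [Nontrivial W]
    (hexp : ∀ w : W, 3 • w = 0) (htr : ∀ v w : W, v ≠ 0 → w ≠ 0 → ∃ g : M, g • v = w) (Q : Subgroup M)
    [hQ : Q.Normal] (hpQ : ¬ 3 ∣ Nat.card Q) (f : M ⧸ Q ≃* alternatingGroup (Fin 4)) :
    ((∀ v w : W, v ≠ 0 → w ≠ 0 → ∃ g ∈ Q, g • v = w) ∧
      ∀ g : M, (∃ k, g ^ 3 ^ k = 1) → ∀ w : W, g • w = w) ∨
    ((∀ v w : W, v ≠ 0 → w ≠ 0 → ∃ g ∈ Q, g • v = w) ∧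
      ∃ (r a : ℕ) (C : Subgroup M) (c : M), r ≠ 3 ∧ Good W r a Q C c) ∨
    Nat.card W = 9 := by
  classical
  haveI : Fact (Nat.Prime 3) := ⟨Nat.prime_three⟩
  set T := (toPermHom M W).range with hT
  have hTadd : ∀ h ∈ T, ∀ v w : W, h (v + w) = h v + h w := by
    rintro _ ⟨m, rfl⟩ v w
    exact smul_add m v w
  have hTtr : ∀ v w : W, v ≠ 0 → w ≠ 0 → ∃ h ∈ T, h v = w := by
    intro v w hv hw
    obtain ⟨m, hm⟩ := htr v w hv hw
    exact ⟨toPermHom M W m, ⟨m, rfl⟩, hm⟩
  have hMQ : Nat.card (M ⧸ Q) = 12 := by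
    rw [Nat.card_congr f.toEquiv]
    have h := two_mul_nat_card_alternatingGroup (α := Fin 4)
    rw [Nat.card_perm, Nat.card_fin] at h
    have h4 : Nat.factorial 4 = 24 := rfl
    omega
  let ρ : M →* T := (toPermHom M W).rangeRestrict
  have hρ : Function.Surjective ρ := (toPermHom M W).rangeRestrict_surjective
  have hTM : Nat.card T ∣ Nat.card M := by
    rw [hT]
    exact Subgroup.card_range_dvd _
  have hcM : Nat.card M = 12 * Nat.card Q := by
    rw [Subgroup.card_eq_card_quotient_mul_card_subgroup Q, hMQ]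
  have h9 : ¬ 9 ∣ Nat.card M := by
    intro h
    rw [hcM] at h
    apply hpQ
    omega
  set L : Subgroup T := Q.map ρ with hL
  haveI hLn : L.Normal := hQ.map ρ hρ
  have hLQ : Nat.card L ∣ Nat.card Q := Subgroup.card_map_dvd Q ρ
  have h3L : ¬ 3 ∣ Nat.card L := fun h => hpQ (h.trans hLQ)
  -- `T / L` is an image of `A_4`
  let ψ : M ⧸ Q →* T ⧸ L := QuotientGroup.map Q L ρ (by rw [← Subgroup.map_le_iff_le_comap])
  have hψ : Function.Surjective ψ := by
    intro x
    obtain ⟨t, rfl⟩ := QuotientGroup.mk_surjective x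
    obtain ⟨m, rfl⟩ := hρ t
    exact ⟨(m : M ⧸ Q), rfl⟩
  rcases hher 3 Nat.prime_three (by norm_num) hexp T hTadd hTtr with ⟨c, hc1, hc2, N, hN, h1, h2, h3⟩ |
    ⟨F, _, _, e, hF⟩ | ⟨hW, hq, N, hN, ⟨ψ⟩⟩ | ⟨hW, hq, N, hN, ⟨ψ⟩⟩ | ⟨-, hW⟩ | ⟨-, hH, hper⟩
  · right; right
    rcases Nat.lt_or_ge c 2 with hc | hc
    · rw [hc2 (by omega)]; norm_num
    · exfalso
      apply h9
      have h4 : 9 ∣ 3 ^ c := by
        have h5 : 3 ^ 2 ∣ 3 ^ c := pow_dvd_pow 3 hc
        exact h5
      exact h4.trans (h1.trans ((Subgroup.card_subgroup_dvd_card N).trans hTM))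
  · -- semilinear
    have hsem : ∀ g : M, ∃ (c : F) (σ : F ≃+* F), ∀ w : W, e (g • w) = c * σ (e w) := fun m => hF _ ⟨m, rfl⟩
    haveI : Finite F := Finite.of_equiv W e.toEquiv
    have hFexp : ∀ x : F, 3 • x = 0 := by
      intro x
      rw [← e.apply_symm_apply x, ← map_nsmul, hexp, map_zero]
    haveI : CharP F 3 := by
      have h1 : ((3 : ℕ) : F) = 0 := by
        have h2 := hFexp 1
        rwa [nsmul_one] at h2
      obtain ⟨r, hr⟩ := CharP.exists F
      have h2 : r ∣ 3 := (CharP.cast_eq_zero_iff F r 3).1 h1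
      have h3 : r ≠ 1 := by
        rintro rfl
        exact one_ne_zero ((CharP.cast_eq_zero_iff F 1 1).2 dvd_rfl |>.symm ▸ Nat.cast_one.symm : (1 : F) = 0)
      have h4 : r = 3 := ((Nat.dvd_prime Nat.prime_three).1 h2).resolve_left h3
      rwa [h4] at hr
    obtain ⟨⟨d, hd0⟩, -, hn⟩ := FiniteField.card F 3
    rw [PNat.mk_coe, ← Nat.card_eq_fintype_card] at hn
    have hcW : Nat.card W = 3 ^ d := by rw [← hn, Nat.card_congr e.toEquiv]
    have h3W : ¬ 3 ∣ Nat.card W - 1 := by
      rw [hcW]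
      have h1 := Nat.one_le_pow d 3 (by norm_num)
      have h2 : 3 ∣ 3 ^ d := dvd_pow_self 3 (by omega)
      omega
    have htrQ : ∀ v w : W, v ≠ 0 → w ≠ 0 → ∃ g ∈ Q, g • v = w := by
      intro v w hv hw
      refine trans_of_cube Q h3W htr (fun g => ?_) v w hv hw
      refine cube_mem e hsem Q _ le_sup_left (fun g hg => ?_) f g
      refine Subgroup.mem_sup_right ?_
      show toPermHom M W g = 1
      ext w
      exact hg w
    rcases Nat.lt_or_ge d 3 with hd | hd
    · obtain rfl | rfl : d = 1 ∨ d = 2 := by omega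
      · left
        refine ⟨htrQ, fun g hg w => ?_⟩
        have h1 := card_fixA_modEq (W := W) (r := 3) hg
        have h2 : Nat.card (fixA W g) ∣ 3 := by
          have h := AddSubgroup.card_addSubgroup_dvd_card (fixA W g)
          rw [hcW, pow_one] at h
          exact h
        rw [hcW, pow_one] at h1
        have h4 : fixA W g = ⊤ := by
          apply AddSubgroup.eq_top_of_card_eq
          rw [hcW, pow_one]
          rcases (Nat.dvd_prime Nat.prime_three).1 h2 with h5 | h5
          · rw [h5] at h1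
            exact absurd h1 (by decide)
          · exact h5
        have h5 : w ∈ fixA W g := by rw [h4]; trivial
        exact h5
      · right; right
        rw [hcW]; norm_num
    · right; left
      refine ⟨htrQ, ?_⟩
      obtain ⟨r, hr, h1, h2, h3⟩ := Cfsg.Agent.Lib.Zsigmondy.exists_primitive (a := 3) (n := d) (by norm_num)
        (by omega) (by omega) (by omega)
      have h4 : d ≤ r - 1 := Nat.le_of_dvd (by have := hr.two_le; omega) h2
      have hidx : ¬ r ∣ (sfHom e hsem).ker.index := by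
        intro h
        have h5 : r ∣ d := by
          rw [Subgroup.index_ker] at h
          have h1 := h.trans (Subgroup.card_subgroup_dvd_card (sfHom e hsem).range)
          rwa [Cfsg.Agent.Lib.FieldAutCard.card_ringAut (p := 3) (f := d) hd0
            (by rw [← Nat.card_eq_fintype_card, hn])] at h1
        have := Nat.le_of_dvd (by omega) h5
        omega
      obtain ⟨a, C, c, h⟩ := good_of hr (by omega) Q (sfHom e hsem).ker (lamHom e hsem)
        (fun b => lamHom_eq_one e hsem b) (fun g hg => mem_ker_of_trivial e hsem hg) hidx htrQ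
        (by rw [hcW]; exact (h1 d).2 dvd_rfl)
      exact ⟨r, a, C, c, fun h => h3 (h ▸ dvd_rfl), h⟩
  · exfalso
    omega
  · exfalso
    omega
  · -- `|W| = 81`
    left
    letI act : DistribMulAction T W :=
      { smul := fun t w => (t : Equiv.Perm W) w
        one_smul := fun w => rfl
        mul_smul := fun a b w => rfl
        smul_zero := fun t => by
          obtain ⟨_, m, rfl⟩ := t
          exact smul_zero m
        smul_add := fun t a b => hTadd t t.2 a b }
    have h3T : ¬ 3 ∣ Nat.card T := by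
      refine no_three_81 (T := T) (W := W) ?_ hW ?_ L h3L ?_
      · intro t ht
        apply Subtype.ext
        ext w
        exact ht w
      · intro v w hv hw
        obtain ⟨h, hh, hhw⟩ := hTtr v w hv hw
        exact ⟨⟨h, hh⟩, hhw⟩
      · intro h5
        have h6 : L.index ∣ 12 := by
          have h7 := Subgroup.card_dvd_of_surjective ψ hψ
          rw [hMQ] at h7
          exact h7
        exact absurd (h5.trans h6) (by norm_num)
    have h3 : ∀ g : M, (∃ k, g ^ 3 ^ k = 1) → ∀ w : W, g • w = w := fun g hg w =>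
      trivial_of_prime_to Nat.prime_three h3T hg w
    refine ⟨?_, h3⟩
    intro v w hv hw
    exact trans_of_cube Q (by rw [hW]; norm_num) htr (fun g => five_sup Q f h3 _) v w hv hw
  · exfalso
    apply h3L
    have h4 : L = ⊤ := by
      haveI := a4_solvable
      haveI : Group.IsSolvable (M ⧸ Q) := Group.isSolvable_of_surjective (f := f.symm.toMonoidHom) f.symm.surjective
      haveI : Group.IsSolvable (T ⧸ L) := Group.isSolvable_of_surjective (f := ψ) hψ
      by_contra hne
      haveI : Nontrivial (T ⧸ L) := by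
        rw [QuotientGroup.nontrivial_iff]
        exact hne
      have h5 := Group.IsSolvable.commutator_lt_top_of_nontrivial (T ⧸ L)
      have h6 : commutator (T ⧸ L) = ⊤ := by
        have h7 := congrArg (Subgroup.map (QuotientGroup.mk' L)) hper
        rw [commutator_def, Subgroup.map_commutator, ← MonoidHom.range_eq_map,
          MonoidHom.range_eq_top.2 (QuotientGroup.mk'_surjective L)] at h7
        rw [commutator_def]
        exact h7
      exact h5.ne h6
    rw [h4, Subgroup.card_top, hH]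
    norm_num

end

end Cfsg.Agent.H37.RIM
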