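import Mathlib

/-!
# S4816, layer (I): arithmetic for the Hering step (helper37)
-/

set_option autoImplicit false
set_option linter.style.haveILetI false

namespace Cfsg.Agent.H37.RIM

theorem val_le {p m N c : ℕ} (hp : p.Prime) (hN : 2 * N = m.factorial) (hm : 1 ≤ m) (hc : p ^ c ∣ N) :
    (p - 1) * c ≤ m - 1 := by
  haveI := Fact.mk hp
  have h1 : p ^ c ∣ m.factorial := by rw [← hN]; exact hc.mul_left 2
  rw [padicValNat_dvd_iff_le (Nat.factorial_ne_zero m)] at h1
  have h2 := sub_one_mul_padicValNat_factorial_lt_of_ne_zero p (n := m) (by omega)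
  have h3 := Nat.mul_le_mul_left (p - 1) h1
  omega

theorem four_pow_le {m : ℕ} (hm : 8 ≤ m) : 2 * 4 ^ (m - 1) ≤ m.factorial := by
  induction m, hm using Nat.le_induction with
  | base => decide
  | succ n hn ih =>
    rw [Nat.factorial_succ, Nat.add_sub_cancel]
    obtain ⟨k, rfl⟩ := Nat.exists_eq_add_of_le hn
    have h1 : 4 ^ (8 + k) = 4 * 4 ^ (8 + k - 1) := by
      rw [show 8 + k - 1 = 7 + k by omega, ← pow_succ']
      congr 1
      omega
    rw [h1]
    nlinarith [Nat.factorial_pos (8 + k)]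

theorem six_pow_le {m : ℕ} (hm : 13 ≤ m) : 2 * 6 ^ (m - 1) ≤ m.factorial := by
  induction m, hm using Nat.le_induction with
  | base => decide
  | succ n hn ih =>
    rw [Nat.factorial_succ, Nat.add_sub_cancel]
    obtain ⟨k, rfl⟩ := Nat.exists_eq_add_of_le hn
    have h1 : 6 ^ (13 + k) = 6 * 6 ^ (13 + k - 1) := by
      rw [show 13 + k - 1 = 12 + k by omega, ← pow_succ']
      congr 1
      omega
    rw [h1]
    nlinarith [Nat.factorial_pos (13 + k)]

theorem cube_le {p : ℕ} (hp : 5 ≤ p) : p ^ 3 ≤ 4 ^ (p - 1) := by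
  induction p, hp using Nat.le_induction with
  | base => decide
  | succ n hn ih =>
    rw [Nat.add_sub_cancel]
    have h1 : 4 ^ n = 4 * 4 ^ (n - 1) := by
      rw [← pow_succ']
      congr 1
      omega
    rw [h1]
    nlinarith [Nat.pos_of_ne_zero (show n ≠ 0 by omega), Nat.mul_le_mul hn hn]

/-- the bound needed for `herP_same` -/
theorem fact_bound {p m N : ℕ} (hp : p.Prime) (hp2 : p ≠ 2) (hN : 2 * N = m.factorial) (hm : 7 ≤ m)
    (h2p : 2 * p ≤ m + 2) (h3 : p = 3 → m = 7 ∨ m = 8 ∨ 13 ≤ m) (c : ℕ) (hc : p ^ c ∣ N) :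
    p ^ (3 * c) ≤ N := by
  have h1 := val_le hp hN (by omega) hc
  by_cases hp3 : p = 3
  · subst hp3
    rcases h3 rfl with rfl | rfl | h
    · have h2 : N = 2520 := by
        have : Nat.factorial 7 = 5040 := rfl
        omega
      subst h2
      have h4 : c ≤ 2 := by
        by_contra hcon
        have h5 : 3 ^ 3 ∣ 3 ^ c := pow_dvd_pow 3 (by omega)
        exact absurd (h5.trans hc) (by norm_num)
      calc 3 ^ (3 * c) ≤ 3 ^ (3 * 2) := Nat.pow_le_pow_right (by norm_num) (by omega)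
        _ ≤ 2520 := by norm_num
    · have h2 : N = 20160 := by
        have : Nat.factorial 8 = 40320 := rfl
        omega
      subst h2
      have h4 : c ≤ 2 := by
        by_contra hcon
        have h5 : 3 ^ 3 ∣ 3 ^ c := pow_dvd_pow 3 (by omega)
        exact absurd (h5.trans hc) (by norm_num)
      calc 3 ^ (3 * c) ≤ 3 ^ (3 * 2) := Nat.pow_le_pow_right (by norm_num) (by omega)
        _ ≤ 20160 := by norm_num
    · have h2 := six_pow_le h
      calc 3 ^ (3 * c) = 27 ^ c := by rw [pow_mul]; norm_num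
        _ ≤ 36 ^ c := Nat.pow_le_pow_left (by norm_num) c
        _ = 6 ^ (2 * c) := by rw [pow_mul]; norm_num
        _ ≤ 6 ^ (m - 1) := Nat.pow_le_pow_right (by norm_num) (by omega)
        _ ≤ N := by omega
  · have hp5 : 5 ≤ p := by
      have h4 := hp.two_le
      have h5 : p ≠ 4 := by rintro rfl; exact absurd hp (by decide)
      omega
    have h2 := four_pow_le (m := m) (by omega)
    calc p ^ (3 * c) = (p ^ 3) ^ c := pow_mul _ _ _
      _ ≤ (4 ^ (p - 1)) ^ c := Nat.pow_le_pow_left (cube_le hp5) c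
      _ = 4 ^ ((p - 1) * c) := (pow_mul _ _ _).symm
      _ ≤ 4 ^ (m - 1) := Nat.pow_le_pow_right (by norm_num) h1
      _ ≤ N := by omega

/-- the other numerical conditions -/
theorem fact_cond {p m N : ℕ} (hN : 2 * N = m.factorial) (hm : 7 ≤ m) (h2p : 2 * p ≤ m + 2) :
    64 < N ∧ (11 ≤ p → 14400 < N) ∧ 7 ∣ N ∧ ¬ N ∣ 2184 := by
  have h7 : Nat.factorial 7 = 5040 := rfl
  have h1 : Nat.factorial 7 ∣ m.factorial := Nat.factorial_dvd_factorial hm
  obtain ⟨k, hk⟩ := h1
  rw [h7] at hk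
  have h2 : N = 2520 * k := by omega
  have hk0 : k ≠ 0 := by
    rintro rfl
    have := Nat.factorial_pos m
    omega
  refine ⟨by omega, fun h => ?_, ⟨360 * k, by omega⟩, fun h => ?_⟩
  · have h3 : (8 : ℕ).factorial ≤ m.factorial := Nat.factorial_le (by omega)
    have h4 : (8 : ℕ).factorial = 40320 := rfl
    omega
  · have h3 : 5 ∣ 2184 := Dvd.dvd.trans ⟨504 * k, by omega⟩ h
    exact absurd h3 (by norm_num)

end Cfsg.Agent.H37.RIM
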