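import Mathlib
import Cfsg.Agent.H605.NX.Blk
import Cfsg.Agent.H32.NY.RData
import Cfsg.Agent.H37.RIM.HerFive
import Cfsg.Agent.H37.RIM.PureA

/-!
# S4816, layer (I), alternating case: good prime, purity, or blocks of order `9` (helper37)

`pure_or_good`: for `I : ImpW p p W K N Q φ` of alternating type either there is a good prime, or the `p`-elements act
trivially on the blocks they fix, or `p = 3`, `|B| = 5` and `5` does not divide `|K : N|`.
-/

set_option autoImplicit false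
set_option linter.style.haveILetI false
set_option linter.unusedSectionVars false
set_option linter.unusedFintypeInType false
set_option linter.unusedDecidableInType false

open scoped Pointwise

namespace Cfsg.Agent.H37.RIM

open MulAction Cfsg.Agent.H605.NX Cfsg.Agent.H32.NX9 Cfsg.Agent.H32.NY.A32 Cfsg.Agent.H32.NY.A37
open Cfsg.Agent.H511.Wt (sum_unique)

universe u v w

variable {p : ℕ} {H : Type u} {V : Type v} {B : Type w} [Group H] [Finite H] [AddCommGroup V] [Finite V]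
  [DistribMulAction H V] [Finite B] [MulAction H B] {W : B → AddSubgroup V} {K N Q : Subgroup H} {φ : N →* ℂˣ}

section blk
variable {q : ℕ}

/-- the action of the stabilizer of a block on the block -/
@[reducible] def blkW (I : ImpW (V := V) p q W K N Q φ) (i : B) :
    DistribMulAction (stabilizer H i) (W i) where
  smul m w := ⟨(m : H) • (w : V), by
    have h := smul_mem_block I (m : H) w.2
    have hm : (m : H) • i = i := m.2
    rwa [hm] at h⟩
  one_smul w := Subtype.ext (one_smul _ _)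
  mul_smul a b w := Subtype.ext (mul_smul _ _ _)
  smul_zero a := Subtype.ext (smul_zero _)
  smul_add a v w := Subtype.ext (smul_add _ _ _)

theorem W_nt (I : ImpW (V := V) p q W K N Q φ) (i : B) : Nontrivial (W i) := by
  haveI := I.core.nt
  rw [AddSubgroup.nontrivial_iff_ne_bot]
  intro h
  have h1 : ∀ j, W j = ⊥ := by
    intro j
    obtain ⟨g, hg⟩ := trans_blocks I i j
    rw [← hg, ← I.smulW, h]
    rw [eq_bot_iff]
    rintro _ ⟨w, hw, rfl⟩
    have hw' : w = 0 := hw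
    subst hw'
    exact smul_zero g
  have h2 := I.top
  simp only [h1, iSup_bot] at h2
  exact bot_ne_top h2

theorem Q_le_st (I : ImpW (V := V) p q W K N Q φ) (i : B) : Q ≤ stabilizer H i :=
  fun g hg => (I.memQ g).1 hg i

/-- the components of a fixed vector are permuted -/
theorem fix_compW (I : ImpW (V := V) p q W K N Q φ) [Fintype B] {f : B → V} (hf : ∀ i, f i ∈ W i) {g : H}
    (hg : g • (∑ i, f i) = ∑ i, f i) (i : B) : g • f i = f (g • i) := by
  have h1 : ∑ j, (g • f (g⁻¹ • j) - f j) = 0 := by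
    rw [Finset.sum_sub_distrib, sub_eq_zero]
    calc ∑ j, g • f (g⁻¹ • j) = ∑ j, g • f j := by
          exact Fintype.sum_equiv (MulAction.toPerm g⁻¹) _ _ (fun j => rfl)
      _ = g • ∑ j, f j := (Finset.smul_sum).symm
      _ = ∑ j, f j := hg
  have h2 := sum_unique I.ind (f := fun j => g • f (g⁻¹ • j) - f j) (fun j => by
    refine AddSubgroup.sub_mem _ ?_ (hf j)
    have := smul_mem_block I g (hf (g⁻¹ • j))
    rwa [smul_inv_smul] at this) h1 (g • i)
  simp only [inv_smul_smul] at h2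
  exact sub_eq_zero.1 h2

end blk

/-- no binomial coefficient `n choose k` is divisible by `p` -/
theorem choose_not_dvd [Fintype B] [DecidableEq B] (I : ImpW (V := V) p p W K N Q φ)
    (hA : ∀ σ : Equiv.Perm B, Equiv.Perm.sign σ = 1 ↔ ∃ h : H, ∀ b, h • b = σ b) {k : ℕ}
    (hk : k ≤ Fintype.card B) (h3 : 3 ≤ Fintype.card B) : ¬ p ∣ (Fintype.card B).choose k := by
  classical
  have hne : ∀ i, ∃ w ∈ W i, w ≠ 0 := by
    intro i
    haveI := W_nt I i
    obtain ⟨w, hw⟩ := exists_ne (0 : W i)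
    exact ⟨w, w.2, fun h => hw (Subtype.ext h)⟩
  choose w hw hw0 using hne
  obtain ⟨Δ, -, hΔ⟩ := Finset.exists_subset_card_eq (s := (Finset.univ : Finset B)) (n := k)
    (by rw [Finset.card_univ]; exact hk)
  let f : B → V := fun i => if i ∈ Δ then w i else 0
  have hf : ∀ i, f i ∈ W i := by
    intro i
    by_cases h : i ∈ Δ
    · simp only [f, if_pos h]; exact hw i
    · simp only [f, if_neg h]; exact (W i).zero_mem
  have hf0 : ∀ i, f i ≠ 0 ↔ i ∈ Δ := by
    intro i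
    by_cases h : i ∈ Δ
    · simp only [f, if_pos h]; exact iff_of_true (hw0 i) h
    · simp only [f, if_neg h]; exact iff_of_false (fun h => h rfl) h
  intro hdvd
  refine I.core.P1 (∑ i, f i) ?_
  have hle : stabilizer H (∑ i, f i) ≤ stabilizer H Δ := by
    intro g hg
    rw [mem_stabilizer_iff] at hg ⊢
    have h1 := fix_compW I hf hg
    have h2 : ∀ i, g • i ∈ Δ ↔ i ∈ Δ := by
      intro i
      rw [← hf0, ← hf0, ← h1, not_iff_not]
      exact smul_eq_zero_iff_eq g
    ext i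
    rw [Finset.mem_smul_finset]
    constructor
    · rintro ⟨j, hj, rfl⟩
      exact (h2 j).2 hj
    · intro hi
      refine ⟨g⁻¹ • i, ?_, smul_inv_smul g i⟩
      rw [← h2, smul_inv_smul]
      exact hi
  have hidx : (stabilizer H Δ).index = (Fintype.card B).choose k := by
    rw [index_stabilizer]
    have horb : orbit H Δ = ((Finset.powersetCard k (Finset.univ : Finset B) : Finset (Finset B)) :
        Set (Finset B)) := by
      ext s
      rw [Finset.mem_coe, Finset.mem_powersetCard]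
      constructor
      · rintro ⟨g, rfl⟩
        refine ⟨Finset.subset_univ _, ?_⟩
        change (g • Δ).card = k
        rw [Finset.card_smul_finset, hΔ]
      · rintro ⟨-, hs⟩
        haveI := Set.powersetCard.isPretransitive_alternatingGroup (α := B) (n := k)
          (by rw [Nat.card_eq_fintype_card]; exact h3)
        obtain ⟨g, hg⟩ := exists_smul_eq (alternatingGroup B)
          (⟨Δ, hΔ⟩ : Set.powersetCard B k) (⟨s, hs⟩ : Set.powersetCard B k)
        have hg' : g • Δ = s := congrArg Subtype.val hg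
        obtain ⟨h, hh⟩ := (hA (g : Equiv.Perm B)).1 g.2
        refine ⟨h, ?_⟩
        change h • Δ = s
        rw [← hg']
        ext b
        rw [Finset.mem_smul_finset, Finset.mem_smul_finset]
        constructor
        · rintro ⟨c, hc, rfl⟩
          exact ⟨c, hc, (hh c).symm⟩
        · rintro ⟨c, hc, rfl⟩
          exact ⟨c, hc, hh c⟩
    rw [horb, Set.ncard_coe_finset, Finset.card_powersetCard, Finset.card_univ]
  exact (hidx ▸ hdvd).trans (Subgroup.index_dvd_of_le hle)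

/-- the good alternative at one block -/
def GoodAtP (Q : Subgroup H) (U : AddSubgroup V) (r : ℕ) : Prop :=
  ∃ t ∈ Q, (∃ k : ℕ, ∀ w ∈ U, t ^ r ^ k • w = w) ∧ (∃ w ∈ U, t • w ≠ w) ∧
    ∀ x ∈ Q, (∃ k : ℕ, ∀ w ∈ U, x ^ r ^ k • w = w) → ∃ j : ℕ, ∀ w ∈ U, x • w = t ^ j • w

/-- transport of the good alternative to all blocks -/
theorem goodPr_ofP (I : ImpW (V := V) p p W K N Q φ) {i : B} {r : ℕ} (hr : r.Prime) (hr2 : r ≠ 2) (hrp : r ≠ p)
    (h : GoodAtP Q (W i) r) : GoodPr p r W Q := by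
  refine ⟨hr, hr2, hrp, fun j => ?_⟩
  obtain ⟨g, hg⟩ := trans_blocks I i j
  have hQn := Q_normal I
  obtain ⟨t, ht, ⟨k, hk⟩, ⟨w, hw, hwt⟩, hx⟩ := h
  have hback : ∀ u ∈ W j, g⁻¹ • u ∈ W i := by
    intro u hu
    have h1 := smul_mem_block I g⁻¹ hu
    rwa [← hg, inv_smul_smul] at h1
  have hpow : ∀ (x : H) (n : ℕ), (g * x * g⁻¹) ^ n = g * x ^ n * g⁻¹ := fun x n => by
    rw [← MulAut.conj_apply, ← map_pow, MulAut.conj_apply]
  refine ⟨g * t * g⁻¹, hQn.conj_mem t ht g, ⟨k, fun u hu => ?_⟩, ⟨g • w, ?_, ?_⟩, ?_⟩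
  · rw [hpow, mul_smul, mul_smul, hk _ (hback u hu), smul_inv_smul]
  · have h1 := smul_mem_block I g hw
    rwa [hg] at h1
  · rw [mul_smul, mul_smul, inv_smul_smul]
    intro h1
    exact hwt (MulAction.injective g h1)
  · rintro x hxQ ⟨l, hl⟩
    have h1 : ∀ w ∈ W i, (g⁻¹ * x * g) ^ r ^ l • w = w := by
      intro w hw
      have h2 : (g⁻¹ * x * g) ^ r ^ l = g⁻¹ * x ^ r ^ l * g := by
        have := Cfsg.Agent.H37.NX.conj_pow g⁻¹ x (r ^ l)
        rwa [inv_inv] at this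
      have h3 := smul_mem_block I g hw
      rw [hg] at h3
      rw [h2, mul_smul, mul_smul, hl _ h3, inv_smul_smul]
    have hc : g⁻¹ * x * g ∈ Q := by
      have := hQn.conj_mem x hxQ g⁻¹
      rwa [inv_inv] at this
    obtain ⟨j', hj'⟩ := hx _ hc ⟨l, h1⟩
    refine ⟨j', fun u hu => ?_⟩
    have h4 := hj' _ (hback u hu)
    rw [mul_smul, mul_smul, smul_inv_smul, inv_smul_eq_iff] at h4
    rw [h4, hpow, mul_smul, mul_smul]

/-- the Hering step at one block -/
theorem blk_stepP (hher : HerP.{v}) (I : ImpW (V := V) p p W K N Q φ) (hA : IsAlt H B)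
    (h58 : (p = 3 ∧ Nat.card B = 5) ∨ 8 ≤ Nat.card B) (h2p : 2 * p ≤ Nat.card B + 1) (i : B) :
    ((∀ a ∈ W i, ∀ b ∈ W i, a ≠ 0 → b ≠ 0 → ∃ g ∈ Q, g • a = b) ∧
      ((∀ x : H, (∃ k, x ^ p ^ k = 1) → x • i = i → ∀ w ∈ W i, x • w = w) ∨
       (∃ r, r.Prime ∧ r ≠ 2 ∧ r ≠ p ∧ GoodAtP Q (W i) r))) ∨
    (p = 3 ∧ Nat.card B = 5 ∧ Nat.card (W i) = 9) := by
  classical
  haveI := Fact.mk I.hp
  haveI := Q_normal I
  haveI := W_nt I i
  letI := blkW I i
  have hact : ∀ (m : stabilizer H i) (w : W i), ((m • w : W i) : V) = (m : H) • (w : V) := fun m w => rfl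
  obtain ⟨i1, i2, hA⟩ := hA
  obtain ⟨e⟩ := alt_quot hA I.memQ i
  have hc : Nat.card {b : B // b ≠ i} = Nat.card B - 1 := by
    rw [Nat.card_eq_fintype_card, Nat.card_eq_fintype_card]
    simp [Fintype.card_subtype_compl]
  have hcB : Nat.card B = Fintype.card B := Nat.card_eq_fintype_card
  have hexp : ∀ w : W i, p • w = 0 := fun w => Subtype.ext (I.core.exp (w : V))
  have htr : ∀ v w : W i, v ≠ 0 → w ≠ 0 → ∃ g : stabilizer H i, g • v = w := by
    intro v w hv hw
    obtain ⟨m, hm, hmv⟩ := I.trans i v v.2 w w.2 (fun h => hv (Subtype.ext h)) (fun h => hw (Subtype.ext h))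
    exact ⟨⟨m, hm⟩, Subtype.ext hmv⟩
  set Q' : Subgroup (stabilizer H i) := Q.subgroupOf (stabilizer H i) with hQ'
  have hpQ : ¬ p ∣ Nat.card Q' := by
    intro h
    apply I.core.pK
    refine h.trans ?_
    have h1 : Nat.card (Q'.map (stabilizer H i).subtype) = Nat.card Q' :=
      Subgroup.card_map_of_injective (Subgroup.subtype_injective _)
    rw [← h1]
    refine Subgroup.card_dvd_of_le ?_
    rintro _ ⟨x, hx, rfl⟩
    exact I.QK hx
  have htrQ : (∀ v w : W i, v ≠ 0 → w ≠ 0 → ∃ g ∈ Q', g • v = w) →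
      ∀ a ∈ W i, ∀ b ∈ W i, a ≠ 0 → b ≠ 0 → ∃ g ∈ Q, g • a = b := by
    intro h1 a ha b hb ha0 hb0
    obtain ⟨g, hg, hgab⟩ := h1 ⟨a, ha⟩ ⟨b, hb⟩ (fun h => ha0 (congrArg Subtype.val h))
      (fun h => hb0 (congrArg Subtype.val h))
    exact ⟨g, hg, congrArg Subtype.val hgab⟩
  have hpure : (∀ g : stabilizer H i, (∃ k, g ^ p ^ k = 1) → ∀ w : W i, g • w = w) →
      ∀ x : H, (∃ k, x ^ p ^ k = 1) → x • i = i → ∀ w ∈ W i, x • w = w := by
    rintro h1 x ⟨k, hk⟩ hxi w hw
    exact congrArg Subtype.val (h1 ⟨x, hxi⟩ ⟨k, Subtype.ext hk⟩ ⟨w, hw⟩)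
  rcases h58 with ⟨rfl, h5⟩ | h8
  · -- `n = 5`
    rw [h5] at hc
    have e' : {b : B // b ≠ i} ≃ Fin 4 := Finite.equivFinOfCardEq hc
    rcases herP_five hher hexp htr Q' hpQ (e.trans (Equiv.altCongrHom e')) with ⟨h1, h2⟩ | ⟨h1, r, a, C, c, hr3, G⟩ | h9
    · exact Or.inl ⟨htrQ h1, Or.inl (hpure h2)⟩
    · refine Or.inl ⟨htrQ h1, Or.inr ⟨r, G.pr, G.r2, hr3, (c : H), G.CQ G.cC, ?_, ?_, ?_⟩⟩
      · refine ⟨a, fun w hw => ?_⟩
        exact congrArg Subtype.val ((G.ord (r ^ a)).2 dvd_rfl ⟨w, hw⟩)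
      · by_contra hcon
        push Not at hcon
        have h7 := (G.ord 1).1 (fun w => Subtype.ext (by
          rw [pow_one]
          exact hcon w w.2))
        have h8 := Nat.dvd_one.1 h7
        have h9 := G.pr.one_lt
        have h10 : 1 < r ^ a := Nat.one_lt_pow (by have := G.a1; omega) h9
        omega
      · rintro x hx ⟨k, hk⟩
        have hxM : x ∈ stabilizer H i := Q_le_st I i hx
        have h7 : (⟨x, hxM⟩ : stabilizer H i) ∈ C :=
          G.mem ⟨x, hxM⟩ hx ⟨k, fun w => Subtype.ext (hk w w.2)⟩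
        obtain ⟨j, hj⟩ := G.gen _ h7
        exact ⟨j, fun w hw => congrArg Subtype.val (hj ⟨w, hw⟩)⟩
    · exact Or.inr ⟨rfl, h5, h9⟩
  · -- `8 ≤ n`
    left
    have h5 : 5 ≤ Nat.card {b : B // b ≠ i} := by rw [hc]; omega
    haveI : IsSimpleGroup (alternatingGroup {b : B // b ≠ i}) := alternatingGroup.isSimpleGroup h5
    haveI : Nontrivial {b : B // b ≠ i} := by
      rw [← Finite.one_lt_card_iff_nontrivial]; omega
    haveI : IsSimpleGroup (stabilizer H i ⧸ Q') := e.isSimpleGroup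
    have hna : ¬ IsMulCommutative (stabilizer H i ⧸ Q') := by
      intro hcomm
      have h6 : Subgroup.center (alternatingGroup {b : B // b ≠ i}) = ⊥ :=
        alternatingGroup.center_eq_bot (by omega)
      have h7 : Subgroup.center (alternatingGroup {b : B // b ≠ i}) = ⊤ := by
        rw [eq_top_iff]
        intro a _
        rw [Subgroup.mem_center_iff]
        intro b
        apply e.symm.injective
        rw [map_mul, map_mul]
        exact hcomm.is_comm.comm _ _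
      rw [h6] at h7
      exact bot_ne_top h7
    have h9 : 2 * Nat.card (stabilizer H i ⧸ Q') = (Nat.card B - 1).factorial := by
      rw [Nat.card_congr e.toEquiv, two_mul_nat_card_alternatingGroup, Nat.card_perm, hc]
    have h3 : p = 3 → Nat.card B - 1 = 7 ∨ Nat.card B - 1 = 8 ∨ 13 ≤ Nat.card B - 1 := by
      rintro rfl
      by_contra hcon
      push Not at hcon
      have hch : ∀ k, k ≤ Fintype.card B → ¬ 3 ∣ (Fintype.card B).choose k := fun k hk =>
        choose_not_dvd I hA hk (by omega)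
      have h10 : Fintype.card B = 10 ∨ Fintype.card B = 11 ∨ Fintype.card B = 12 ∨ Fintype.card B = 13 := by
        omega
      rcases h10 with h | h | h | h
      · exact hch 2 (by omega) (by rw [h]; decide)
      · exact hch 3 (by omega) (by rw [h]; decide)
      · exact hch 1 (by omega) (by rw [h]; decide)
      · exact hch 2 (by omega) (by rw [h]; decide)
    obtain ⟨c1, c2, c3, c4⟩ := fact_cond h9 (by omega) (by omega : 2 * p ≤ Nat.card B - 1 + 2)
    have hsame := herP_same hher I.core.odd hexp htr Q' hna hpQ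
      (fun c _ h _ => fact_bound I.hp I.core.odd h9 (by omega) (by omega) h3 c h) c1 c2 (fun _ => c3)
      (fun _ => c4)
    refine ⟨htrQ ?_, Or.inl (hpure ?_)⟩
    · intro v w hv hw
      obtain ⟨g, hg⟩ := htr v w hv hw
      obtain ⟨h, hh, hgh⟩ := hsame g
      exact ⟨h, hh, by rw [← hgh, hg]⟩
    · intro g hg w
      obtain ⟨h, hh, hgh⟩ := hsame g
      exact trivial_of_same I.hp hpQ hh hgh hg w

/-- the blocks have the same order -/
theorem card_W (I : ImpW (V := V) p p W K N Q φ) (i j : B) : Nat.card (W i) = Nat.card (W j) := by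
  obtain ⟨g, hg⟩ := trans_blocks I i j
  refine Nat.card_congr
    { toFun := fun w => ⟨g • (w : V), ?_⟩
      invFun := fun u => ⟨g⁻¹ • (u : V), ?_⟩
      left_inv := fun w => Subtype.ext (inv_smul_smul _ _)
      right_inv := fun u => Subtype.ext (smul_inv_smul _ _) }
  · have h1 := smul_mem_block I g w.2
    rwa [hg] at h1
  · have h1 := smul_mem_block I g⁻¹ u.2
    have h3 : g⁻¹ • j = i := by rw [← hg, inv_smul_smul]
    rwa [h3] at h1

/-- blocks of order `9`: `5` does not divide `|Q : N|` -/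
theorem five_not_dvd (I : ImpW (V := V) p p W K N Q φ) (h9 : ∀ i, Nat.card (W i) = 9) :
    ¬ 5 ∣ N.relIndex Q := by
  classical
  intro hdvd
  haveI : Fact (Nat.Prime 5) := ⟨by norm_num⟩
  haveI : (N.subgroupOf Q).Normal := by
    refine ⟨fun n hn g => ?_⟩
    have h : (g : H) * (n : H) = (n : H) * (g : H) := Subgroup.mem_center_iff.1 (I.core.cen hn) (g : H)
    have h2 : g * n * g⁻¹ = n := by
      apply Subtype.ext
      change (g : H) * n * (g : H)⁻¹ = n
      rw [h, mul_inv_cancel_right]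
    rwa [h2]
  obtain ⟨x, hx⟩ := exists_prime_orderOf_dvd_card' (G := Q ⧸ N.subgroupOf Q) 5 hdvd
  obtain ⟨⟨g, hgQ⟩, rfl⟩ := QuotientGroup.mk_surjective x
  have h1 : (((⟨g, hgQ⟩ : Q) ^ 5 : Q) : Q ⧸ N.subgroupOf Q) = 1 := by
    rw [QuotientGroup.mk_pow, ← hx]
    exact pow_orderOf_eq_one _
  have h2' : (⟨g, hgQ⟩ : Q) ^ 5 ∈ N.subgroupOf Q := (QuotientGroup.eq_one_iff _).1 h1
  have h2 : g ^ 5 ∈ N := h2'
  have h3 : g ∉ N := by
    intro h
    have h4 : ((⟨g, hgQ⟩ : Q) : Q ⧸ N.subgroupOf Q) = 1 := (QuotientGroup.eq_one_iff _).2 h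
    rw [h4, orderOf_one] at hx
    exact absurd hx (by norm_num)
  apply h3
  refine mem_N_of_blocks I fun i w hw => ?_
  -- `g` acts on `W i`
  letI := blkW I i
  have hgi : g ∈ stabilizer H i := Q_le_st I i hgQ
  have h5 : ∀ w : W i, (⟨g, hgi⟩ : stabilizer H i) ^ 5 • w = w := by
    intro w
    apply Subtype.ext
    change g ^ 5 • (w : V) = w
    exact trivial_of_N I h2 _
  -- the cyclic group generated by the permutation
  let ρ : Equiv.Perm (W i) := toPermHom (stabilizer H i) (W i) ⟨g, hgi⟩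
  have hρ5 : ρ ^ 5 = 1 := by
    rw [← map_pow]
    ext w
    exact congrArg Subtype.val (h5 w)
  have h6 : IsPGroup 5 (Subgroup.zpowers ρ) := by
    rintro ⟨_, j, rfl⟩
    refine ⟨1, Subtype.ext ?_⟩
    change (ρ ^ j) ^ 5 ^ 1 = 1
    rw [pow_one, ← zpow_natCast, ← zpow_mul, mul_comm, zpow_mul, zpow_natCast, hρ5, one_zpow]
  have h7 := h6.card_modEq_card_fixedPoints (W i)
  have h8 : Nat.card (fixedPoints (Subgroup.zpowers ρ) (W i)) = Nat.card (fixA (W i) (⟨g, hgi⟩ : stabilizer H i)) := by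
    refine Nat.card_congr (Equiv.subtypeEquivRight fun w => ?_)
    constructor
    · intro h
      exact h ⟨ρ, Subgroup.mem_zpowers ρ⟩
    · rintro h ⟨x, hx⟩
      have h4 : Subgroup.zpowers ρ ≤ stabilizer (Equiv.Perm (W i)) w := by
        rw [Subgroup.zpowers_le]
        exact h
      exact h4 hx
  rw [h8, h9] at h7
  have h10 : Nat.card (fixA (W i) (⟨g, hgi⟩ : stabilizer H i)) ∣ 3 ^ 2 := by
    have h := AddSubgroup.card_addSubgroup_dvd_card (fixA (W i) (⟨g, hgi⟩ : stabilizer H i))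
    rw [h9] at h
    exact h
  obtain ⟨k, hk, hk'⟩ := (Nat.dvd_prime_pow Nat.prime_three).1 h10
  rw [hk'] at h7
  have h11 : k = 2 := by
    interval_cases k
    · exact absurd h7 (by decide)
    · exact absurd h7 (by decide)
    · rfl
  rw [h11] at hk'
  have h12 : fixA (W i) (⟨g, hgi⟩ : stabilizer H i) = ⊤ := by
    apply AddSubgroup.eq_top_of_card_eq
    rw [hk', h9]
    norm_num
  have h13 : (⟨w, hw⟩ : W i) ∈ fixA (W i) (⟨g, hgi⟩ : stabilizer H i) := by rw [h12]; trivial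
  exact congrArg Subtype.val (show (⟨g, hgi⟩ : stabilizer H i) • (⟨w, hw⟩ : W i) = ⟨w, hw⟩ from h13)

/-- **Purity or a good prime** (layer (I) of case A, alternating type). -/
theorem pure_or_good (hher : HerP.{v}) (I : ImpW (V := V) p p W K N Q φ) (hQK : Q = K) (hA : IsAlt H B)
    (h58 : (p = 3 ∧ Nat.card B = 5) ∨ 8 ≤ Nat.card B) (h2p : 2 * p ≤ Nat.card B + 1) :
    ((∃ r, GoodPr p r W Q) ∧ ∀ i, ∀ a ∈ W i, ∀ b ∈ W i, a ≠ 0 → b ≠ 0 → ∃ k ∈ Q, k • a = b) ∨
    ((∀ x : H, (∃ k, x ^ p ^ k = 1) → ∀ i : B, x • i = i → ∀ w ∈ W i, x • w = w) ∧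
      ∀ i, ∀ a ∈ W i, ∀ b ∈ W i, a ≠ 0 → b ≠ 0 → ∃ k ∈ Q, k • a = b) ∨
    (p = 3 ∧ Nat.card B = 5 ∧ ¬ 5 ∣ N.relIndex K) := by
  classical
  have hstep := fun i => blk_stepP hher I hA h58 h2p i
  by_cases h1 : ∃ i, p = 3 ∧ Nat.card B = 5 ∧ Nat.card (W i) = 9
  · obtain ⟨i, h3, h5, h9⟩ := h1
    refine Or.inr (Or.inr ⟨h3, h5, ?_⟩)
    rw [← hQK]
    exact five_not_dvd I fun j => (card_W I j i).trans h9
  have hstep' : ∀ i, (∀ a ∈ W i, ∀ b ∈ W i, a ≠ 0 → b ≠ 0 → ∃ g ∈ Q, g • a = b) ∧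
      ((∀ x : H, (∃ k, x ^ p ^ k = 1) → x • i = i → ∀ w ∈ W i, x • w = w) ∨
       (∃ r, r.Prime ∧ r ≠ 2 ∧ r ≠ p ∧ GoodAtP Q (W i) r)) := fun i => by
    rcases hstep i with h | h
    · exact h
    · exact absurd ⟨i, h⟩ h1
  have htr : ∀ i, ∀ a ∈ W i, ∀ b ∈ W i, a ≠ 0 → b ≠ 0 → ∃ k ∈ Q, k • a = b := fun i => (hstep' i).1
  by_cases h2 : ∃ i, ∃ r, r.Prime ∧ r ≠ 2 ∧ r ≠ p ∧ GoodAtP Q (W i) r
  · obtain ⟨i, r, hr, hr2, hrp, h⟩ := h2
    exact Or.inl ⟨⟨r, goodPr_ofP I hr hr2 hrp h⟩, htr⟩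
  · refine Or.inr (Or.inl ⟨fun x hx i hi => ?_, htr⟩)
    rcases (hstep' i).2 with h | h
    · exact h x hx hi
    · exact absurd ⟨i, h⟩ h2

end Cfsg.Agent.H37.RIM
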