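import Mathlib
import Cfsg.Agent.H37.RIM.Pure

/-!
# S4816, layer (I), alternating case: the form used by the assembly (helper37)
-/

set_option autoImplicit false
set_option linter.unusedSectionVars false

namespace Cfsg.Agent.H37.RIM

open MulAction Cfsg.Agent.H605.NX Cfsg.Agent.H32.NX9 Cfsg.Agent.H32.NY.A32 Cfsg.Agent.H32.NY.A37

universe u v w

variable {p : ℕ} {H : Type u} {V : Type v} {B : Type w} [Group H] [Finite H] [AddCommGroup V] [Finite V]
  [DistribMulAction H V] [Finite B] [MulAction H B] {W : B → AddSubgroup V} {K N Q : Subgroup H} {φ : N →* ℂˣ}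

/-- `2 p ≤ n + 1` -/
theorem two_p_le (I : ImpW (V := V) p p W K N Q φ) (hA : IsAlt H B) : 2 * p ≤ Nat.card B + 1 := by
  obtain ⟨i1, i2, hA⟩ := hA
  have hcB : Nat.card B = Fintype.card B := Nat.card_eq_fintype_card
  have h1 := I.card
  have h2 := I.hp.two_le
  by_contra hcon
  push Not at hcon
  refine choose_not_dvd I hA (k := Fintype.card B + 1 - p) (by omega) (by omega) ?_
  have h3 := Nat.Prime.dvd_choose_add (p := p) (a := Fintype.card B + 1 - p) (b := p - 1) I.hp (by omega) (by omega)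
    (by omega)
  rwa [show Fintype.card B + 1 - p + (p - 1) = Fintype.card B by omega] at h3

/-- **Purity or a good prime** (layer (I) of case A, alternating type), the form of the assembly. -/
theorem pure_stmt (hher : HerP.{v}) (I : ImpW (V := V) p p W K N Q φ) (hQK : Q = K) (hA : IsAlt H B)
    (h58 : (p = 3 ∧ Nat.card B = 5) ∨ 8 ≤ Nat.card B) :
    (∃ r, GoodPr p r W Q ∧ ∀ i, ∀ a ∈ W i, ∀ b ∈ W i, a ≠ 0 → b ≠ 0 → ∃ k ∈ Q, k • a = b) ∨
    ((∀ x : H, (∃ k, x ^ p ^ k = 1) → ∀ i : B, x • i = i → ∀ w ∈ W i, x • w = w) ∧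
      ∀ i, ∀ a ∈ W i, ∀ b ∈ W i, a ≠ 0 → b ≠ 0 → ∃ k ∈ Q, k • a = b) ∨
    (p = 3 ∧ Nat.card B = 5 ∧ ¬ 5 ∣ N.relIndex K) := by
  rcases pure_or_good hher I hQK hA h58 (two_p_le I hA) with ⟨⟨r, h1⟩, h2⟩ | h | h
  · exact Or.inl ⟨r, h1, h2⟩
  · exact Or.inr (Or.inl h)
  · exact Or.inr (Or.inr h)

end Cfsg.Agent.H37.RIM
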