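import Mathlib
import Cfsg.Agent.H37.RIM.PureB
import Cfsg.Agent.H37.RIM.HerPOf
import Cfsg.Agent.H930.IP.Layer

/-!
# S4816, layer (I): `PureStmt` (helper37)
-/

set_option autoImplicit false

namespace Cfsg.Agent.H37.RIM

universe u

theorem pureStmt (p : ℕ) : Cfsg.Agent.H930.IP.PureStmt.{u} p :=
  fun _ I hQK hA h58 => pure_stmt herP I hQK hA h58

end Cfsg.Agent.H37.RIM
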